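import Mathlib
import Cfsg.Prelude.Def_Classical
import Cfsg.Prelude.Def_ClassicalGeometry
import Cfsg.Prelude.Def_GeometricClasses
import Cfsg.Agent.Lib.helper17.STM.Defs
import Cfsg.Agent.Lib.helper17.STM.Defs2
import Cfsg.Agent.Lib.Helper28.OMM.Defs

/-!
# Project OMN (matrix side of S2099): `Ω⁻_{2m+2}(F) = ⟨TmL a b t, TmS a u⟩`, the matrix `SysM`, the centre of `Ω⁻_{2m+2}(F)` is `≤ {±1}`.
designer: helper12.  Definitions.  See `Skel.lean.txt` in this folder.  Minus-type twin of `Helper12.OMB` (itself a port of helper28's OMM), companion of helper17's STM.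

Index type `Im (Fin m) = (Fin m ⊕ Fin m) ⊕ Fin 2` (`inl (inl i) = e_i`, `inl (inr i) = e_{-i}`, `iz1 = inr 0`, `iz2 = inr 1` the coordinates of the anisotropic plane `W`),
`Q = Cfsg.quadFormMinus m F A B`, `Q v = Σ_i v_i v_{-i} + (z₁² + A z₁ z₂ + B z₂²)`.
* `omatM g` : the underlying matrix of `g : Ω F (quadFormMinus m F A B)`; `oglM : Ω →* GL`.
* `bM x y` : the polar form of `Q`.
* `sgActM u v c x = x + c • (bM u x • v - bM v x • u)` : the Siegel transformation (long root element), `IsSgM t u v c`.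
* `EOM m F A B` : the subgroup of `GL (Im (Fin m)) F` generated by the elements with matrix `TmL a b t` (`a ≠ b`, `a ≠ ng b`) or `TmS a u`, `u : Kq F A B`
  (`TmL`, `TmS`, `Kq` of `helper17.STM.Defs`).
* `embMm A = fromBlocks A 0 0 1`, `embGLm : GL (ι ⊕ ι) F →* GL (Im ι) F` : the embedding of the hyperbolic part `W^⊥` (`TmL a b t = embMm (Td a b t)`),
  `exW u = Sum.elim u 0` : the vector `(u, 0)`;  `wv x : Kq F A B` the `W`-component of `x`, `vW u` the vector `(0, u)`.
-/

set_option autoImplicit false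

namespace Cfsg.Agent.Lib.Helper12.OMN

open Matrix Cfsg.Agent.Lib.helper3.STC Cfsg.Agent.Lib.Lead.STD Cfsg.Agent.Lib.helper17.STM

universe u w

/-! ## the matrix of an element of `Ω` -/

/-- the matrix of an element of `Ω⁻_{2m+2}(F)` -/
def omatM {F : Type u} [Field F] {m : ℕ} {A B : F} (g : Cfsg.Omega F (Cfsg.quadFormMinus m F A B)) :
    Matrix (Im (Fin m)) (Im (Fin m)) F :=
  (((g : Cfsg.isometryGroup F (Cfsg.quadFormMinus m F A B)) : Matrix.GeneralLinearGroup (Im (Fin m)) F) :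
    Matrix (Im (Fin m)) (Im (Fin m)) F)

theorem omatM_mul {F : Type u} [Field F] {m : ℕ} {A B : F} (g h : Cfsg.Omega F (Cfsg.quadFormMinus m F A B)) :
    omatM (g * h) = omatM g * omatM h := rfl

theorem omatM_one {F : Type u} [Field F] {m : ℕ} {A B : F} :
    omatM (1 : Cfsg.Omega F (Cfsg.quadFormMinus m F A B)) = 1 := rfl

theorem omatM_injective {F : Type u} [Field F] {m : ℕ} {A B : F} :
    Function.Injective (omatM : Cfsg.Omega F (Cfsg.quadFormMinus m F A B) → _) := by
  intro g h e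
  apply Subtype.ext
  apply Subtype.ext
  apply Units.ext
  exact e

/-- the coercion `Ω →* GL` -/
def oglM {F : Type u} [Field F] {m : ℕ} {A B : F} :
    Cfsg.Omega F (Cfsg.quadFormMinus m F A B) →* Matrix.GeneralLinearGroup (Im (Fin m)) F :=
  (Subgroup.subtype _).comp (Subgroup.subtype _)

theorem oglM_coe {F : Type u} [Field F] {m : ℕ} {A B : F} (g : Cfsg.Omega F (Cfsg.quadFormMinus m F A B)) :
    ((oglM g : Matrix.GeneralLinearGroup (Im (Fin m)) F) : Matrix (Im (Fin m)) (Im (Fin m)) F) = omatM g := rfl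

theorem oglM_injective {F : Type u} [Field F] {m : ℕ} {A B : F} :
    Function.Injective (oglM : Cfsg.Omega F (Cfsg.quadFormMinus m F A B) →* _) := by
  intro g h e
  apply omatM_injective
  rw [← oglM_coe, ← oglM_coe, e]

/-! ## the form, Siegel transformations, the elementary subgroup -/

variable {m : ℕ} {F : Type u} [Field F]

/-- the polar form of `Cfsg.quadFormMinus m F A B` -/
def bM (A B : F) (x y : Im (Fin m) → F) : F :=
  ∑ i : Fin m, (x (Sum.inl (Sum.inl i)) * y (Sum.inl (Sum.inr i)) + y (Sum.inl (Sum.inl i)) * x (Sum.inl (Sum.inr i))) +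
    (2 * x iz1 * y iz1 + A * (x iz1 * y iz2 + y iz1 * x iz2) + 2 * B * x iz2 * y iz2)

/-- the Siegel transformation `x ↦ x + c (B(u,x) v - B(v,x) u)` -/
def sgActM (A B : F) (u v : Im (Fin m) → F) (c : F) (x : Im (Fin m) → F) : Im (Fin m) → F :=
  x + c • (bM A B u x • v - bM A B v x • u)

/-- `t` acts as the Siegel transformation `sgActM A B u v c` -/
def IsSgM (A B : F) (t : Matrix.GeneralLinearGroup (Im (Fin m)) F) (u v : Im (Fin m) → F) (c : F) : Prop :=
  ∀ x, (t : Matrix (Im (Fin m)) (Im (Fin m)) F) *ᵥ x = sgActM A B u v c x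

/-- the subgroup of `GL` generated by the long root elements `TmL a b t` and the short root elements `TmS a u` -/
def EOM (m : ℕ) (F : Type u) [Field F] (A B : F) : Subgroup (Matrix.GeneralLinearGroup (Im (Fin m)) F) :=
  Subgroup.closure {M | (∃ (a b : Fin m ⊕ Fin m) (t : F), a ≠ b ∧ a ≠ ng b ∧
      (M : Matrix (Im (Fin m)) (Im (Fin m)) F) = TmL a b t) ∨
    ∃ (a : Fin m ⊕ Fin m) (u : Kq F A B), (M : Matrix (Im (Fin m)) (Im (Fin m)) F) = TmS a u}

/-! ## the hyperbolic part `W^⊥` and the anisotropic plane `W` -/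

/-- `diag(A, 1)` -/
def embMm {ι : Type w} (A : Matrix (ι ⊕ ι) (ι ⊕ ι) F) : Matrix (Im ι) (Im ι) F :=
  Matrix.fromBlocks A 0 0 1

/-- `A ↦ diag(A, 1)` as a monoid homomorphism -/
def embHomm (F : Type u) [Field F] (ι : Type w) [Fintype ι] [DecidableEq ι] :
    Matrix (ι ⊕ ι) (ι ⊕ ι) F →* Matrix (Im ι) (Im ι) F where
  toFun := embMm
  map_one' := Matrix.fromBlocks_one
  map_mul' A B := by
    unfold embMm
    rw [Matrix.fromBlocks_multiply]
    simp

/-- `g ↦ diag(g, 1)`, `GL (ι ⊕ ι) F →* GL (Im ι) F` -/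
def embGLm (F : Type u) [Field F] (ι : Type w) [Fintype ι] [DecidableEq ι] :
    Matrix.GeneralLinearGroup (ι ⊕ ι) F →* Matrix.GeneralLinearGroup (Im ι) F :=
  Units.map (embHomm F ι)

theorem embGLm_coe {ι : Type w} [Fintype ι] [DecidableEq ι] (g : Matrix.GeneralLinearGroup (ι ⊕ ι) F) :
    ((embGLm F ι g : Matrix.GeneralLinearGroup (Im ι) F) : Matrix (Im ι) (Im ι) F) =
      embMm (g : Matrix (ι ⊕ ι) (ι ⊕ ι) F) := rfl

/-- the vector `(u, 0)` -/
def exW {ι : Type w} (u : ι ⊕ ι → F) : Im ι → F := Sum.elim u (fun _ => 0)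

/-- the `W`-component of a vector, as an element of the quadratic extension -/
def wv {ι : Type w} {A B : F} (x : Im ι → F) : Kq F A B := ⟨x iz1, x iz2⟩

/-- the vector `(0, u)`, `u = u.re z₁ + u.im z₂` -/
def vW {ι : Type w} {A B : F} (u : Kq F A B) : Im ι → F := Sum.elim (fun _ => 0) ![u.re, u.im]

end Cfsg.Agent.Lib.Helper12.OMN
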