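import Mathlib
import Cfsg.Agent.Lib.Helper12.OMN.Defs
import Cfsg.Agent.Lib.Helper12.OMB.Blk
import Cfsg.Agent.Lib.Lead.SPN.Defs
import Cfsg.Agent.Lib.Lead.STDB1
import Cfsg.Agent.Lib.Helper24.STCI1
import Cfsg.Agent.Lib.Helper28.CTDM1f

/-!
# Project OMN, block M (helper12), rows M1-M6 VERBATIM: the matrices `TmL a b t`, `TmS a u` satisfy the relations of `SysM`; `tmS`, `tmL`, `matSysM` (target (N-a)).

Method (as in `Helper12.OMB.Mat`): `TmS a u`, `TmL a b t`, ... are the images of explicit `6 × 6` (resp. `4 × 4`) matrices under the block embedding `blk f` (`Helper12.OMB.Blk`) along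
`f = ![iz1, iz2, inl a, inl (ng a), inl b, inl (ng b)]`; the relations are identities of explicit small matrices in the coordinates `u = u.re + u.im ω`.
-/

set_option autoImplicit false
set_option linter.unusedSectionVars false
set_option linter.unusedSimpArgs false
set_option linter.unusedTactic false
set_option linter.unreachableTactic false

namespace Cfsg.Agent.Lib.Helper12.OMN

open Matrix Cfsg.Agent.Lib.helper15.St2 Cfsg.Agent.Lib.helper3.STC Cfsg.Agent.Lib.Lead.STD Cfsg.Agent.Lib.helper17.STM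
  Cfsg.Agent.Lib.Lead.SPN Cfsg.Agent.Lib.Helper28.CTD Cfsg.Agent.Lib.Helper28.OMM Cfsg.Agent.Lib.Helper12.OMB

universe u w

/-! ## the small matrices -/

section small

variable {F : Type u} [Field F]

/-- `TmS a u` in the basis `z1, z2, a, -a, b, -b`, `u = r + i ω` -/
def mSa (A B r i : F) : Matrix (Fin 6) (Fin 6) F :=
  !![1, 0, 0, r, 0, 0;
     0, 1, 0, i, 0, 0;
     -(2 * r + A * i), -(A * r + 2 * B * i), 1, -(r * r + A * r * i + B * i * i), 0, 0;
     0, 0, 0, 1, 0, 0;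
     0, 0, 0, 0, 1, 0;
     0, 0, 0, 0, 0, 1]

/-- `TmS b u` -/
def mSb (A B r i : F) : Matrix (Fin 6) (Fin 6) F :=
  !![1, 0, 0, 0, 0, r;
     0, 1, 0, 0, 0, i;
     0, 0, 1, 0, 0, 0;
     0, 0, 0, 1, 0, 0;
     -(2 * r + A * i), -(A * r + 2 * B * i), 0, 0, 1, -(r * r + A * r * i + B * i * i);
     0, 0, 0, 0, 0, 1]

/-- `TmL a b t` -/
def mLab (t : F) : Matrix (Fin 6) (Fin 6) F :=
  !![1, 0, 0, 0, 0, 0;
     0, 1, 0, 0, 0, 0;
     0, 0, 1, 0, t, 0;
     0, 0, 0, 1, 0, 0;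
     0, 0, 0, 0, 1, 0;
     0, 0, 0, -t, 0, 1]

/-- `TmL a (ng b) t` -/
def mLanb (t : F) : Matrix (Fin 6) (Fin 6) F :=
  !![1, 0, 0, 0, 0, 0;
     0, 1, 0, 0, 0, 0;
     0, 0, 1, 0, 0, t;
     0, 0, 0, 1, 0, 0;
     0, 0, 0, -t, 1, 0;
     0, 0, 0, 0, 0, 1]

set_option maxHeartbeats 1000000 in
theorem m6_ss (A B r i r' i' : F) :
    mSa A B r i * mSb A B r' i' * mSa A B (-r) (-i) * mSb A B (-r') (-i') =
      mLanb (-(2 * r * r' + A * (r * i' + i * r') + 2 * B * i * i')) := by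
  ext x y
  fin_cases x <;> fin_cases y <;> simp [mSa, mSb, mLanb, Matrix.mul_apply, Fin.sum_univ_succ] <;> ring

set_option maxHeartbeats 1000000 in
theorem m6_ls (A B t r i : F) :
    mLab t * mSb A B r i * mLab (-t) * mSb A B (-r) (-i) =
      mSa A B (t * r) (t * i) * mLanb (t * (r * r + A * r * i + B * i * i)) := by
  ext x y
  fin_cases x <;> fin_cases y <;> simp [mSa, mSb, mLab, mLanb, Matrix.mul_apply, Fin.sum_univ_succ] <;> ring

/-- `TmS a u` in the basis `z1, z2, a, -a` -/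
def m4Sa (A B r i : F) : Matrix (Fin 4) (Fin 4) F :=
  !![1, 0, 0, r;
     0, 1, 0, i;
     -(2 * r + A * i), -(A * r + 2 * B * i), 1, -(r * r + A * r * i + B * i * i);
     0, 0, 0, 1]

/-- `TmS (ng a) u` in the basis `z1, z2, a, -a` -/
def m4Sna (A B r i : F) : Matrix (Fin 4) (Fin 4) F :=
  !![1, 0, r, 0;
     0, 1, i, 0;
     0, 0, 1, 0;
     -(2 * r + A * i), -(A * r + 2 * B * i), -(r * r + A * r * i + B * i * i), 1]

/-- the short Weyl element of `t = r + i ω`, `n = nm t`: the reflection in `t` on `W`, `e_a ↦ -n⁻¹ e_{-a}`, `e_{-a} ↦ -n e_a` -/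
def m4W (A B r i n : F) : Matrix (Fin 4) (Fin 4) F :=
  !![1 - r * (2 * r + A * i) * n⁻¹, -(r * (A * r + 2 * B * i) * n⁻¹), 0, 0;
     -(i * (2 * r + A * i) * n⁻¹), 1 - i * (A * r + 2 * B * i) * n⁻¹, 0, 0;
     0, 0, 0, -n;
     0, 0, -n⁻¹, 0]

theorem m4_add (A B r i r' i' : F) : m4Sa A B r i * m4Sa A B r' i' = m4Sa A B (r + r') (i + i') := by
  ext x y
  fin_cases x <;> fin_cases y <;> simp [m4Sa, Matrix.mul_apply, Fin.sum_univ_succ] <;> ring

set_option maxHeartbeats 1000000 in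
theorem m4_W (A B r i n : F) (hn : n ≠ 0) (hnn : n = r * r + A * r * i + B * i * i) :
    m4Sa A B r i * m4Sna A B (n⁻¹ * r) (n⁻¹ * i) * m4Sa A B r i = m4W A B r i n := by
  ext x y
  fin_cases x <;> fin_cases y <;> simp [m4Sa, m4Sna, m4W, Matrix.mul_apply, Fin.sum_univ_succ]
  all_goals (field_simp)
  all_goals (rw [hnn]; ring)

set_option maxHeartbeats 1000000 in
theorem m4_rels (A B r i n ur ui : F) (hn : n ≠ 0) (hnn : n = r * r + A * r * i + B * i * i) :
    m4W A B r i n * m4Sa A B ur ui =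
      m4Sna A B
        ((n⁻¹) ^ 2 * ((r * r - B * i * i) * (ur + A * ui) - B * (2 * r * i + A * i * i) * (-ui)))
        ((n⁻¹) ^ 2 * ((r * r - B * i * i) * (-ui) + (2 * r * i + A * i * i) * (ur + A * ui) + A * (2 * r * i + A * i * i) * (-ui))) *
      m4W A B r i n := by
  ext x y
  fin_cases x <;> fin_cases y <;> simp [m4Sa, m4Sna, m4W, Matrix.mul_apply, Fin.sum_univ_succ]
  all_goals (field_simp)
  all_goals (rw [hnn]; ring)

theorem mSa_sub (A B r i : F) : mSa A B r i - 1 =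
    Matrix.single 0 3 r + Matrix.single 1 3 i - Matrix.single 2 0 (2 * r + A * i) - Matrix.single 2 1 (A * r + 2 * B * i) -
      Matrix.single 2 3 (r * r + A * r * i + B * i * i) := by
  ext x y
  fin_cases x <;> fin_cases y <;> simp [mSa, Matrix.single_apply]

theorem mSb_sub (A B r i : F) : mSb A B r i - 1 =
    Matrix.single 0 5 r + Matrix.single 1 5 i - Matrix.single 4 0 (2 * r + A * i) - Matrix.single 4 1 (A * r + 2 * B * i) -
      Matrix.single 4 5 (r * r + A * r * i + B * i * i) := by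
  ext x y
  fin_cases x <;> fin_cases y <;> simp [mSb, Matrix.single_apply]

theorem mLab_sub (t : F) : mLab t - 1 = Matrix.single 2 4 t - Matrix.single 5 3 t := by
  ext x y
  fin_cases x <;> fin_cases y <;> simp [mLab, Matrix.single_apply]

theorem mLanb_sub (t : F) : mLanb t - 1 = Matrix.single 2 5 t - Matrix.single 4 3 t := by
  ext x y
  fin_cases x <;> fin_cases y <;> simp [mLanb, Matrix.single_apply]

theorem m4Sa_sub (A B r i : F) : m4Sa A B r i - 1 =
    Matrix.single 0 3 r + Matrix.single 1 3 i - Matrix.single 2 0 (2 * r + A * i) - Matrix.single 2 1 (A * r + 2 * B * i) -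
      Matrix.single 2 3 (r * r + A * r * i + B * i * i) := by
  ext x y
  fin_cases x <;> fin_cases y <;> simp [m4Sa, Matrix.single_apply]

theorem m4Sna_sub (A B r i : F) : m4Sna A B r i - 1 =
    Matrix.single 0 2 r + Matrix.single 1 2 i - Matrix.single 3 0 (2 * r + A * i) - Matrix.single 3 1 (A * r + 2 * B * i) -
      Matrix.single 3 2 (r * r + A * r * i + B * i * i) := by
  ext x y
  fin_cases x <;> fin_cases y <;> simp [m4Sna, Matrix.single_apply]

end small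

/-! ## the matrices `TmS`, `TmL` as block images -/

section M

variable {F : Type u} [Field F] {A B : F} {ι : Type w} [Fintype ι] [DecidableEq ι]

/-- the six indices `z1, z2, a, -a, b, -b` -/
def f6 (a b : ι ⊕ ι) : Fin 6 → Im ι := ![iz1, iz2, Sum.inl a, Sum.inl (ng a), Sum.inl b, Sum.inl (ng b)]

theorem f6_inj {a b : ι ⊕ ι} (hab : a ≠ b) (hab' : a ≠ ng b) : Function.Injective (f6 a b) := by
  have h1 : a ≠ ng a := ne_ng a
  have h2 : b ≠ ng b := ne_ng b
  have h3 : ng a ≠ b := fun h => hab' (by rw [← h, ng_ng])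
  have h4 : ng a ≠ ng b := fun h => hab (ng_inj.mp h)
  intro i j h
  fin_cases i <;> fin_cases j <;> simp [f6, iz1, iz2] at h ⊢
  all_goals first | exact absurd h ‹_› | exact absurd h.symm ‹_›

/-- the four indices `z1, z2, a, -a` -/
def f4 (a : ι ⊕ ι) : Fin 4 → Im ι := ![iz1, iz2, Sum.inl a, Sum.inl (ng a)]

theorem f4_inj (a : ι ⊕ ι) : Function.Injective (f4 a) := by
  have h1 : a ≠ ng a := ne_ng a
  intro i j h
  fin_cases i <;> fin_cases j <;> simp [f4, iz1, iz2] at h ⊢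
  all_goals first | exact absurd h ‹_› | exact absurd h.symm ‹_›

theorem TmSa_eq_blk {a b : ι ⊕ ι} (hab : a ≠ b) (hab' : a ≠ ng b) (u : Kq F A B) :
    TmS a u = blk (f6 a b) (f6_inj hab hab') (mSa A B u.re u.im) := by
  rw [blk_apply, mSa_sub, ext0_sub, ext0_sub, ext0_sub, ext0_add, ext0_single, ext0_single, ext0_single, ext0_single, ext0_single]
  unfold TmS
  rw [nm_def]
  show _ = 1 + (Matrix.single iz1 (Sum.inl (ng a)) u.re + Matrix.single iz2 (Sum.inl (ng a)) u.im -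
    Matrix.single (Sum.inl a) iz1 (2 * u.re + A * u.im) - Matrix.single (Sum.inl a) iz2 (A * u.re + 2 * B * u.im) -
    Matrix.single (Sum.inl a) (Sum.inl (ng a)) (u.re * u.re + A * u.re * u.im + B * u.im * u.im))
  abel

theorem TmSb_eq_blk {a b : ι ⊕ ι} (hab : a ≠ b) (hab' : a ≠ ng b) (u : Kq F A B) :
    TmS b u = blk (f6 a b) (f6_inj hab hab') (mSb A B u.re u.im) := by
  rw [blk_apply, mSb_sub, ext0_sub, ext0_sub, ext0_sub, ext0_add, ext0_single, ext0_single, ext0_single, ext0_single, ext0_single]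
  unfold TmS
  rw [nm_def]
  show _ = 1 + (Matrix.single iz1 (Sum.inl (ng b)) u.re + Matrix.single iz2 (Sum.inl (ng b)) u.im -
    Matrix.single (Sum.inl b) iz1 (2 * u.re + A * u.im) - Matrix.single (Sum.inl b) iz2 (A * u.re + 2 * B * u.im) -
    Matrix.single (Sum.inl b) (Sum.inl (ng b)) (u.re * u.re + A * u.re * u.im + B * u.im * u.im))
  abel

theorem TmLab_eq_blk {a b : ι ⊕ ι} (hab : a ≠ b) (hab' : a ≠ ng b) (t : F) :
    TmL a b t = blk (f6 a b) (f6_inj hab hab') (mLab t) := by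
  rw [blk_apply, mLab_sub, ext0_sub, ext0_single, ext0_single]
  unfold TmL
  show _ = 1 + (Matrix.single (Sum.inl a) (Sum.inl b) t - Matrix.single (Sum.inl (ng b)) (Sum.inl (ng a)) t)
  abel

theorem TmLanb_eq_blk {a b : ι ⊕ ι} (hab : a ≠ b) (hab' : a ≠ ng b) (t : F) :
    TmL a (ng b) t = blk (f6 a b) (f6_inj hab hab') (mLanb t) := by
  rw [blk_apply, mLanb_sub, ext0_sub, ext0_single, ext0_single]
  unfold TmL
  rw [ng_ng]
  show _ = 1 + (Matrix.single (Sum.inl a) (Sum.inl (ng b)) t - Matrix.single (Sum.inl b) (Sum.inl (ng a)) t)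
  abel

theorem TmSa_eq_blk4 (a : ι ⊕ ι) (u : Kq F A B) : TmS a u = blk (f4 a) (f4_inj a) (m4Sa A B u.re u.im) := by
  rw [blk_apply, m4Sa_sub, ext0_sub, ext0_sub, ext0_sub, ext0_add, ext0_single, ext0_single, ext0_single, ext0_single, ext0_single]
  unfold TmS
  rw [nm_def]
  show _ = 1 + (Matrix.single iz1 (Sum.inl (ng a)) u.re + Matrix.single iz2 (Sum.inl (ng a)) u.im -
    Matrix.single (Sum.inl a) iz1 (2 * u.re + A * u.im) - Matrix.single (Sum.inl a) iz2 (A * u.re + 2 * B * u.im) -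
    Matrix.single (Sum.inl a) (Sum.inl (ng a)) (u.re * u.re + A * u.re * u.im + B * u.im * u.im))
  abel

theorem TmSna_eq_blk4 (a : ι ⊕ ι) (u : Kq F A B) : TmS (ng a) u = blk (f4 a) (f4_inj a) (m4Sna A B u.re u.im) := by
  rw [blk_apply, m4Sna_sub, ext0_sub, ext0_sub, ext0_sub, ext0_add, ext0_single, ext0_single, ext0_single, ext0_single, ext0_single]
  unfold TmS
  rw [nm_def, ng_ng]
  show _ = 1 + (Matrix.single iz1 (Sum.inl a) u.re + Matrix.single iz2 (Sum.inl a) u.im -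
    Matrix.single (Sum.inl (ng a)) iz1 (2 * u.re + A * u.im) - Matrix.single (Sum.inl (ng a)) iz2 (A * u.re + 2 * B * u.im) -
    Matrix.single (Sum.inl (ng a)) (Sum.inl a) (u.re * u.re + A * u.re * u.im + B * u.im * u.im))
  abel

/-! ## M1 -/

/-- M1 -/
theorem TmS_zero (a : ι ⊕ ι) : TmS a (0 : Kq F A B) = 1 := by
  unfold TmS
  simp

theorem TmS_add (a : ι ⊕ ι) (t u : Kq F A B) : TmS a t * TmS a u = TmS a (t + u) := by
  rw [TmSa_eq_blk4, TmSa_eq_blk4, TmSa_eq_blk4, ← map_mul, m4_add, QuadraticAlgebra.re_add, QuadraticAlgebra.im_add]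

/-- the short root element as an element of `GL` -/
def tmS (a : ι ⊕ ι) (u : Kq F A B) : Matrix.GeneralLinearGroup (Im ι) F :=
  ⟨TmS a u, TmS a (-u), by rw [TmS_add, add_neg_cancel, TmS_zero], by rw [TmS_add, neg_add_cancel, TmS_zero]⟩

theorem tmS_coe (a : ι ⊕ ι) (u : Kq F A B) : ((tmS a u : Matrix.GeneralLinearGroup (Im ι) F) : Matrix (Im ι) (Im ι) F) = TmS a u := rfl

theorem tmS_inv (a : ι ⊕ ι) (u : Kq F A B) : (tmS a u : Matrix.GeneralLinearGroup (Im ι) F)⁻¹ = tmS a (-u) := by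
  apply Units.ext
  rfl

/-- the long root element as an element of `GL`: the image of `mx a b t` (`Helper28.CTD`) under `embGLm` -/
def tmL (a b : ι ⊕ ι) (t : F) : Matrix.GeneralLinearGroup (Im ι) F :=
  embGLm F ι (Matrix.SpecialLinearGroup.toGL (mx a b t))

/-- `embMm (Td a b t) = TmL a b t` (row V2 states it as `embMm_Td`) -/
theorem omnm_embMm_Td (a b : ι ⊕ ι) (t : F) : embMm (Td a b t) = TmL a b t := by
  unfold embMm Td TmL
  ext i j
  rcases i with i | i <;> rcases j with j | j <;>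
    simp [Matrix.fromBlocks, Matrix.single_apply, Matrix.one_apply, Matrix.sub_apply, Matrix.add_apply]

theorem tmL_coe {a b : ι ⊕ ι} (hab : a ≠ b) (hab' : a ≠ ng b) (t : F) :
    ((tmL a b t : Matrix.GeneralLinearGroup (Im ι) F) : Matrix (Im ι) (Im ι) F) = TmL a b t := by
  unfold tmL
  rw [embGLm_coe]
  show embMm ((mx a b t : Matrix.SpecialLinearGroup (ι ⊕ ι) F) : Matrix (ι ⊕ ι) (ι ⊕ ι) F) = _
  rw [mx_coe a b hab hab', omnm_embMm_Td]

/-! ## M2 -/

/-- M2 -/
theorem TmS_comm_TmL {a c d : ι ⊕ ι} (h3 : d ≠ a) (h4 : c ≠ ng a) (t : Kq F A B) (u : F) :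
    TmS a t * TmL c d u = TmL c d u * TmS a t := by
  have e1 : (Sum.inl (ng a) : Im ι) ≠ Sum.inl c := fun h => h4 (Sum.inl.inj h).symm
  have e2 : (Sum.inl (ng a) : Im ι) ≠ Sum.inl (ng d) := fun h => h3 (ng_inj.mp (Sum.inl.inj h)).symm
  have e3 : (iz1 : Im ι) ≠ Sum.inl c := fun h => by cases h
  have e3' : (iz2 : Im ι) ≠ Sum.inl c := fun h => by cases h
  have e4 : (iz1 : Im ι) ≠ Sum.inl (ng d) := fun h => by cases h
  have e4' : (iz2 : Im ι) ≠ Sum.inl (ng d) := fun h => by cases h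
  have e5 : (Sum.inl d : Im ι) ≠ iz1 := fun h => by cases h
  have e5' : (Sum.inl d : Im ι) ≠ iz2 := fun h => by cases h
  have e6 : (Sum.inl d : Im ι) ≠ Sum.inl a := fun h => h3 (Sum.inl.inj h)
  have e7 : (Sum.inl (ng c) : Im ι) ≠ iz1 := fun h => by cases h
  have e7' : (Sum.inl (ng c) : Im ι) ≠ iz2 := fun h => by cases h
  have e8 : (Sum.inl (ng c) : Im ι) ≠ Sum.inl a := fun h => h4 (by rw [← Sum.inl.inj h, ng_ng])
  unfold TmS TmL
  simp only [Matrix.add_mul, Matrix.sub_mul, Matrix.mul_add, Matrix.mul_sub, Matrix.one_mul, Matrix.mul_one,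
    Matrix.single_mul_single_of_ne _ _ _ _ e1, Matrix.single_mul_single_of_ne _ _ _ _ e2,
    Matrix.single_mul_single_of_ne _ _ _ _ e3, Matrix.single_mul_single_of_ne _ _ _ _ e4,
    Matrix.single_mul_single_of_ne _ _ _ _ e3', Matrix.single_mul_single_of_ne _ _ _ _ e4',
    Matrix.single_mul_single_of_ne _ _ _ _ e5, Matrix.single_mul_single_of_ne _ _ _ _ e6,
    Matrix.single_mul_single_of_ne _ _ _ _ e5', Matrix.single_mul_single_of_ne _ _ _ _ e7',
    Matrix.single_mul_single_of_ne _ _ _ _ e7, Matrix.single_mul_single_of_ne _ _ _ _ e8]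
  abel

/-! ## M3, M4, M5 -/

/-- M3 -/
theorem TmL_TmS_ls {a b : ι ⊕ ι} (hab : a ≠ b) (hab' : a ≠ ng b) (t : F) (u : Kq F A B) :
    TmL a b t * TmS b u * TmL a b (-t) * TmS b (-u) = TmS a (t • u) * TmL a (ng b) (t * nm u) := by
  rw [TmLab_eq_blk hab hab', TmSb_eq_blk hab hab', TmLab_eq_blk hab hab', TmSb_eq_blk hab hab', TmSa_eq_blk hab hab',
    TmLanb_eq_blk hab hab', ← map_mul, ← map_mul, ← map_mul, ← map_mul, QuadraticAlgebra.re_neg, QuadraticAlgebra.im_neg,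
    QuadraticAlgebra.re_smul, QuadraticAlgebra.im_smul, smul_eq_mul, smul_eq_mul, nm_def, m6_ls]

/-- M4 -/
theorem TmS_TmS_ss {a b : ι ⊕ ι} (hab : a ≠ b) (hab' : a ≠ ng b) (t u : Kq F A B) :
    TmS a t * TmS b u * TmS a (-t) * TmS b (-u) = TmL a (ng b) (-(pq t u)) := by
  rw [TmSa_eq_blk hab hab', TmSb_eq_blk hab hab', TmSa_eq_blk hab hab', TmSb_eq_blk hab hab',
    TmLanb_eq_blk hab hab', ← map_mul, ← map_mul, ← map_mul, QuadraticAlgebra.re_neg, QuadraticAlgebra.im_neg,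
    QuadraticAlgebra.re_neg, QuadraticAlgebra.im_neg, pq_def, m6_ss]

/-- the coordinates of `star (t⁻¹ ^ 2 * u)` -/
theorem omnm_star_inv_sq [Fact (∀ r : F, r ^ 2 ≠ -B + A * r)] (t u : Kq F A B) :
    star (t⁻¹ ^ 2 * u) = ((nm t)⁻¹ ^ 2) • (t * t * star u) := by
  rw [kq_inv_def, star_mul', star_pow, kq_star_smul, star_star, smul_pow, smul_mul_assoc]
  simp only [pow_two]

/-- the short Weyl matrix -/
theorem omnm_ws_eq [Fact (∀ r : F, r ^ 2 ≠ -B + A * r)] (a : ι ⊕ ι) {t : Kq F A B} (ht : t ≠ 0) :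
    TmS a t * TmS (ng a) (star t)⁻¹ * TmS a t = blk (f4 a) (f4_inj a) (m4W A B t.re t.im (nm t)) := by
  rw [TmSa_eq_blk4, TmSna_eq_blk4, ← map_mul, ← map_mul, kq_star_inv_eq, QuadraticAlgebra.re_smul, QuadraticAlgebra.im_smul,
    smul_eq_mul, smul_eq_mul, m4_W A B t.re t.im (nm t) (nm_ne_zero ht) (nm_def t)]

/-- M5 -/
theorem TmS_rels [Fact (∀ r : F, r ^ 2 ≠ -B + A * r)] (a : ι ⊕ ι) {t : Kq F A B} (ht : t ≠ 0) (u : Kq F A B) :
    (TmS a t * TmS (ng a) (star t)⁻¹ * TmS a t) * TmS a u =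
      TmS (ng a) (star (t⁻¹ ^ 2 * u)) * (TmS a t * TmS (ng a) (star t)⁻¹ * TmS a t) := by
  have hre : (star (t⁻¹ ^ 2 * u)).re = ((nm t)⁻¹) ^ 2 * ((t.re * t.re - B * t.im * t.im) * (u.re + A * u.im) -
      B * (2 * t.re * t.im + A * t.im * t.im) * (-u.im)) := by
    rw [omnm_star_inv_sq]
    simp only [QuadraticAlgebra.re_smul, QuadraticAlgebra.im_smul, QuadraticAlgebra.re_mul, QuadraticAlgebra.im_mul,
      QuadraticAlgebra.re_star, QuadraticAlgebra.im_star, smul_eq_mul]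
    ring
  have him : (star (t⁻¹ ^ 2 * u)).im = ((nm t)⁻¹) ^ 2 * ((t.re * t.re - B * t.im * t.im) * (-u.im) +
      (2 * t.re * t.im + A * t.im * t.im) * (u.re + A * u.im) + A * (2 * t.re * t.im + A * t.im * t.im) * (-u.im)) := by
    rw [omnm_star_inv_sq]
    simp only [QuadraticAlgebra.re_smul, QuadraticAlgebra.im_smul, QuadraticAlgebra.re_mul, QuadraticAlgebra.im_mul,
      QuadraticAlgebra.re_star, QuadraticAlgebra.im_star, smul_eq_mul]
    ring
  rw [omnm_ws_eq a ht, TmSa_eq_blk4, TmSna_eq_blk4, ← map_mul, ← map_mul, hre, him,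
    m4_rels A B t.re t.im (nm t) u.re u.im (nm_ne_zero ht) (nm_def t)]

/-! ## M6 -/

/-- M6  **(N-a) the matrix `SysM`** -/
def matSysM (F : Type u) [Field F] (A B : F) [Fact (∀ r : F, r ^ 2 ≠ -B + A * r)] (ι : Type w) [Fintype ι] [DecidableEq ι] :
    SysM F A B ι (Matrix.GeneralLinearGroup (Im ι) F) where
  toSysD := (matSys F ι).map ((embGLm F ι).comp Matrix.SpecialLinearGroup.toGL)
  xs := tmS
  adds a t u := Units.ext (TmS_add a t u)
  comm_ls a c d h1 h2 h3 h4 t u := by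
    show tmS a t * tmL c d u = tmL c d u * tmS a t
    apply Units.ext
    rw [Units.val_mul, Units.val_mul, tmS_coe, tmL_coe h1 h2]
    exact TmS_comm_TmL h3 h4 t u
  ls a b hab hab' t u := by
    have hx : ∀ c d (s : F), (tmL c d s : Matrix.GeneralLinearGroup (Im ι) F)⁻¹ = tmL c d (-s) := fun c d s =>
      (SysD.x_neg ((matSys F ι).map ((embGLm F ι).comp Matrix.SpecialLinearGroup.toGL)) c d s).symm
    show tmL a b t * tmS b u * (tmL a b t)⁻¹ * (tmS b u)⁻¹ = tmS a (t • u) * tmL a (ng b) (t * nm u)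
    rw [hx, tmS_inv]
    apply Units.ext
    have h5 : a ≠ ng (ng b) := by rw [ng_ng]; exact hab
    simp only [Units.val_mul, tmS_coe, tmL_coe hab hab', tmL_coe hab' h5]
    exact TmL_TmS_ls hab hab' t u
  ss a b hab hab' t u := by
    show tmS a t * tmS b u * (tmS a t)⁻¹ * (tmS b u)⁻¹ = tmL a (ng b) (-(pq t u))
    rw [tmS_inv, tmS_inv]
    apply Units.ext
    have h5 : a ≠ ng (ng b) := by rw [ng_ng]; exact hab
    simp only [Units.val_mul, tmS_coe, tmL_coe hab' h5]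
    exact TmS_TmS_ss hab hab' t u
  rels a t u ht := by
    show cj (tmS a t * tmS (ng a) (star t)⁻¹ * tmS a t) (tmS a u) = tmS (ng a) (star (t⁻¹ ^ 2 * u))
    unfold cj
    rw [mul_inv_eq_iff_eq_mul]
    apply Units.ext
    simp only [Units.val_mul, tmS_coe]
    exact TmS_rels a ht u

theorem matSysM_x_eq [Fact (∀ r : F, r ^ 2 ≠ -B + A * r)] (a b : ι ⊕ ι) (t : F) : (matSysM F A B ι).x a b t = tmL a b t := rfl

theorem matSysM_xs_eq [Fact (∀ r : F, r ^ 2 ≠ -B + A * r)] (a : ι ⊕ ι) (u : Kq F A B) : (matSysM F A B ι).xs a u = tmS a u := rfl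

theorem matSysM_x [Fact (∀ r : F, r ^ 2 ≠ -B + A * r)] {a b : ι ⊕ ι} (hab : a ≠ b) (hab' : a ≠ ng b) (t : F) :
    (((matSysM F A B ι).x a b t : Matrix.GeneralLinearGroup (Im ι) F) : Matrix (Im ι) (Im ι) F) = TmL a b t :=
  tmL_coe hab hab' t

theorem matSysM_xs [Fact (∀ r : F, r ^ 2 ≠ -B + A * r)] (a : ι ⊕ ι) (u : Kq F A B) :
    (((matSysM F A B ι).xs a u : Matrix.GeneralLinearGroup (Im ι) F) : Matrix (Im ι) (Im ι) F) = TmS a u := rfl

end M

end Cfsg.Agent.Lib.Helper12.OMN
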